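import Mathlib.Algebra.MvPolynomial.Monad
import Mathlib.Data.List.Indexes
import Mathlib.RingTheory.IntegralClosure.IsIntegralClosure.Basic
import Mathlib.RingTheory.Polynomial.Quotient
import Mathlib.RingTheory.MvPolynomial.Basic

/-!
Noether normalization with integral coefficients. The Nagata substitution below is adapted from
`Mathlib.RingTheory.NoetherNormalization` (Apache 2.0), keeping the substitution explicit.
-/

open Polynomial MvPolynomial Ideal Nat RingHom List

set_option maxHeartbeats 400000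

namespace Groth.Agent.NoetherInt

variable {k : Type*} [Field k] {n : ℕ} (f : MvPolynomial (Fin (n + 1)) k)
variable (v w : Fin (n + 1) →₀ ℕ)

namespace NN

section equivT

/-- `up` is defined as `2 + f.totalDegree`. Any big enough number would work. -/
local notation3 "up" => 2 + f.totalDegree

variable {f v} in
lemma lt_up (vlt : ∀ i, v i < up) : ∀ l ∈ ofFn v, l < up := by
  grind

/-- `r` maps `(i : Fin (n + 1))` to `up ^ i`. -/
local notation3 "r" => fun (i : Fin (n + 1)) ↦ up ^ i.1

/-- We construct an algebra map `T1 f c` which maps `X_i` into `X_i + c • X_0 ^ r_i` when `i ≠ 0`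
and `X_0` to `X_0`. -/
noncomputable abbrev T1 (c : k) :
    MvPolynomial (Fin (n + 1)) k →ₐ[k] MvPolynomial (Fin (n + 1)) k :=
  aeval fun i ↦ if i = 0 then X 0 else X i + c • X 0 ^ r i

lemma t1_comp_t1_neg (c : k) : (T1 f c).comp (T1 f (-c)) = AlgHom.id _ _ := by
  rw [comp_aeval, ← MvPolynomial.aeval_X_left]
  ext i v
  cases i using Fin.cases <;> simp

/-- `T1 f 1` leads to an algebra equiv `T f`. -/
noncomputable abbrev T := AlgEquiv.ofAlgHom (T1 f 1) (T1 f (-1))
  (t1_comp_t1_neg f 1) (by simpa using t1_comp_t1_neg f (-1))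

lemma sum_r_mul_ne (vlt : ∀ i, v i < up) (wlt : ∀ i, w i < up) (ne : v ≠ w) :
    ∑ x : Fin (n + 1), r x * v x ≠ ∑ x : Fin (n + 1), r x * w x := by
  intro h
  refine ne <| Finsupp.ext <| congrFun <| ofFn_inj.mp ?_
  apply ofDigits_inj_of_len_eq (Nat.lt_add_right f.totalDegree one_lt_two)
    (by simp) (lt_up vlt) (lt_up wlt)
  simpa only [ofDigits_eq_sum_mapIdx, mapIdx_eq_ofFn, get_ofFn, length_ofFn,
    Fin.val_cast, mul_comm, sum_ofFn] using! h

lemma degreeOf_zero_t {a : k} (ha : a ≠ 0) : ((T f) (monomial v a)).degreeOf 0 =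
    ∑ i : Fin (n + 1), (r i) * v i := by
  rw [← natDegree_finSuccEquiv, monomial_eq, Finsupp.prod_pow v fun a ↦ X a]
  simp only [Fin.prod_univ_succ, Fin.sum_univ_succ, map_mul, map_prod, map_pow,
    AlgEquiv.ofAlgHom_apply, MvPolynomial.aeval_C, MvPolynomial.aeval_X, if_pos, Fin.succ_ne_zero,
    ite_false, one_smul, map_add, finSuccEquiv_X_zero, finSuccEquiv_X_succ, algebraMap_eq]
  have h (i : Fin n) :
      (Polynomial.C (X (R := k) i) + Polynomial.X ^ r i.succ) ^ v i.succ ≠ 0 :=
    pow_ne_zero (v i.succ) (leadingCoeff_ne_zero.mp <| by simp [add_comm, leadingCoeff_X_pow_add_C])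
  rw [natDegree_mul (by simp [ha]) (mul_ne_zero (by simp) (Finset.prod_ne_zero_iff.mpr
    (fun i _ ↦ h i))), natDegree_mul (by simp) (Finset.prod_ne_zero_iff.mpr (fun i _ ↦ h i)),
    natDegree_prod _ _ (fun i _ ↦ h i), natDegree_finSuccEquiv, degreeOf_C]
  simpa only [natDegree_pow, zero_add, natDegree_X, mul_one, Fin.val_zero, pow_zero, one_mul,
    add_right_inj] using Finset.sum_congr rfl (fun i _ ↦ by
    rw [add_comm (Polynomial.C _), natDegree_X_pow_add_C, mul_comm])

/-- `T` maps different monomials of `f` to polynomials with different degrees in `X_0`. -/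
lemma degreeOf_t_ne_of_ne (hv : v ∈ f.support) (hw : w ∈ f.support) (ne : v ≠ w) :
    (T f <| monomial v <| coeff v f).degreeOf 0 ≠
    (T f <| monomial w <| coeff w f).degreeOf 0 := by
  rw [degreeOf_zero_t _ _ <| mem_support_iff.mp hv, degreeOf_zero_t _ _ <| mem_support_iff.mp hw]
  refine sum_r_mul_ne f v w (fun i ↦ ?_) (fun i ↦ ?_) ne <;>
  exact lt_of_le_of_lt ((monomial_le_degreeOf i ‹_›).trans (degreeOf_le_totalDegree f i))
    (by lia)

lemma leadingCoeff_finSuccEquiv_t :
    (finSuccEquiv k n ((T f) ((monomial v) (coeff v f)))).leadingCoeff =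
    algebraMap k _ (coeff v f) := by
  rw [monomial_eq, Finsupp.prod_fintype]
  · simp only [map_mul, map_prod, leadingCoeff_mul, leadingCoeff_prod]
    rw [AlgEquiv.ofAlgHom_apply, algHom_C, algebraMap_eq, finSuccEquiv_apply,
      eval₂Hom_C, coe_comp]
    simp only [AlgEquiv.ofAlgHom_apply, Function.comp_apply, leadingCoeff_C, map_pow,
      leadingCoeff_pow, algebraMap_eq]
    have : ∀ j, ((finSuccEquiv k n) ((T1 f) 1 (X j))).leadingCoeff = 1 := fun j ↦ by
      by_cases h : j = 0
      · simp [h, finSuccEquiv_apply]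
      · simp only [aeval_eq_bind₁, bind₁_X_right, if_neg h, one_smul, map_add, map_pow]
        obtain ⟨i, rfl⟩ := Fin.exists_succ_eq.mpr h
        simp [finSuccEquiv_X_succ, finSuccEquiv_X_zero, add_comm]
    simp only [this, one_pow, Finset.prod_const_one, mul_one]
  exact fun i ↦ pow_zero _

/-- `T` maps `f` into some polynomial in `X_0` such that the leading coefficient is invertible. -/
lemma T_leadingcoeff_isUnit (fne : f ≠ 0) :
    IsUnit (finSuccEquiv k n (T f f)).leadingCoeff := by
  obtain ⟨v, vin, vs⟩ := Finset.exists_max_image f.support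
    (fun v ↦ (T f ((monomial v) (coeff v f))).degreeOf 0) (support_nonempty.mpr fne)
  set h := fun w ↦ (MvPolynomial.monomial w) (coeff w f)
  simp only [← natDegree_finSuccEquiv] at vs
  replace vs : ∀ x ∈ f.support \ {v}, (finSuccEquiv k n ((T f) (h x))).degree <
      (finSuccEquiv k n ((T f) (h v))).degree := by
    intro x hx
    obtain ⟨h1, h2⟩ := Finset.mem_sdiff.mp hx
    apply degree_lt_degree <| lt_of_le_of_ne (vs x h1) ?_
    simpa only [natDegree_finSuccEquiv]
      using degreeOf_t_ne_of_ne f _ _ h1 vin <| ne_of_not_mem_cons h2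
  have coeff : (finSuccEquiv k n ((T f) (h v + ∑ x ∈ f.support \ {v}, h x))).leadingCoeff =
      (finSuccEquiv k n ((T f) (h v))).leadingCoeff := by
    simp only [map_add, map_sum]
    rw [add_comm]
    apply leadingCoeff_add_of_degree_lt <| (lt_of_le_of_lt <| degree_sum_le _ _) ?_
    have h2 : h v ≠ 0 := by simpa [h] using mem_support_iff.mp vin
    replace h2 : (finSuccEquiv k n ((T f) (h v))) ≠ 0 := fun eq ↦ h2 <|
      by simpa only [map_eq_zero_iff _ (AlgEquiv.injective _)] using eq
    exact (Finset.sup_lt_iff <| Ne.bot_lt (fun x ↦ h2 <| degree_eq_bot.mp x)).mpr vs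
  nth_rw 2 [← f.support_sum_monomial_coeff]
  rw [Finset.sum_eq_add_sum_sdiff_singleton_of_mem vin h]
  rw [leadingCoeff_finSuccEquiv_t] at coeff
  simpa only [coeff, algebraMap_eq] using (mem_support_iff.mp vin).isUnit.map MvPolynomial.C

end equivT

theorem algEquiv_comp_integral {K A B C : Type*} [CommRing K] [CommRing A] [CommRing B] [CommRing C]
    [Algebra K A] [Algebra K B] [Algebra K C] (φ : A →ₐ[K] B) (e : B ≃ₐ[K] C) (h : φ.toRingHom.IsIntegral) :
    ((e : B →ₐ[K] C).comp φ).toRingHom.IsIntegral :=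
  RingHom.IsIntegral.trans φ.toRingHom (e : B →ₐ[K] C).toRingHom h
    (RingHom.isIntegral_of_surjective _ e.surjective)

section intmaps

variable (I : Ideal (MvPolynomial (Fin (n + 1)) k))

/-- `hom1` is a homomorphism from `k[X_0,...X_{n-1}]` to `k[X_1,...X_n][X]/φ(T(I))`,
where `φ` is the isomorphism from `k[X_0,...X_{n-1}]` to `k[X_1,...X_n][X]`. -/
noncomputable abbrev hom1 : MvPolynomial (Fin n) k →ₐ[MvPolynomial (Fin n) k]
    (MvPolynomial (Fin n) k)[X] ⧸ (I.map <| T f).map (finSuccEquiv k n) :=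
  (Quotient.mkₐ (MvPolynomial (Fin n) k) (map (finSuccEquiv k n) (map (T f) I))).comp
  (Algebra.ofId (MvPolynomial (Fin n) k) ((MvPolynomial (Fin n) k)[X]))

/-- `hom1 f I` is integral. -/
lemma hom1_isIntegral (fne : f ≠ 0) (fi : f ∈ I) : (hom1 f I).IsIntegral := by
  obtain u := T_leadingcoeff_isUnit f fne
  exact (monic_of_isUnit_leadingCoeff_inv_smul u).quotient_isIntegral <|
    Submodule.smul_of_tower_mem _ u.unit⁻¹.val <| mem_map_of_mem _ <| mem_map_of_mem _ fi

/-- `eqv1` is the isomorphism from `k[X_1,...X_n][X]/φ(T(I))`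
to `k[X_0,...,X_n]/T(I)`, induced by `φ`. -/
noncomputable abbrev eqv1 :
    ((MvPolynomial (Fin n) k)[X] ⧸ (I.map (T f)).map (finSuccEquiv k n)) ≃ₐ[k]
    MvPolynomial (Fin (n + 1)) k ⧸ I.map (T f) := quotientEquivAlg
  ((I.map (T f)).map (finSuccEquiv k n)) (I.map (T f)) (finSuccEquiv k n).symm <| by
  set g := (finSuccEquiv k n)
  have : g.symm.toRingEquiv.toRingHom.comp g = RingHom.id _ :=
    g.toRingEquiv.symm_toRingHom_comp_toRingHom
  calc
    _ = Ideal.map ((RingHom.id _).comp <| T f) I := by rw [id_comp, Ideal.map_coe]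
    _ = (I.map (T f)).map (RingHom.id _) := by simp only [← Ideal.map_map, Ideal.map_coe]
    _ = (I.map (T f)).map (g.symm.toAlgHom.toRingHom.comp g) :=
      congrFun (congrArg Ideal.map this.symm) (I.map (T f))
    _ = _ := by simp [← Ideal.map_map, Ideal.map_coe]

/-- `eqv2` is the isomorphism from `k[X_0,...,X_n]/T(I)` into `k[X_0,...,X_n]/I`,
induced by `T`. -/
noncomputable abbrev eqv2 :
    (MvPolynomial (Fin (n + 1)) k ⧸ I.map (T f)) ≃ₐ[k] MvPolynomial (Fin (n + 1)) k ⧸ I :=
  quotientEquivAlg (R₁ := k) (I.map (T f)) I (T f).symm <| by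
  calc
    _ = I.map ((T f).symm.toRingEquiv.toRingHom.comp (T f)) := by
      have : (T f).symm.toRingEquiv.toRingHom.comp (T f) = RingHom.id _ :=
        RingEquiv.symm_toRingHom_comp_toRingHom _
      rw [this, Ideal.map_id]
    _ = _ := by
      rw [← Ideal.map_map, Ideal.map_coe, Ideal.map_coe]
      exact congrArg _ rfl

/-- `hom2` is the composition of maps above, from `k[X_0,...X_(n-1)]` to `k[X_0,...X_n]/I`. -/
noncomputable def hom2 : MvPolynomial (Fin n) k →ₐ[k] MvPolynomial (Fin (n + 1)) k ⧸ I :=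
  (eqv2 f I).toAlgHom.comp ((eqv1 f I).toAlgHom.comp ((hom1 f I).restrictScalars k))

/-- `hom2 f I` is integral. -/
lemma hom2_isIntegral (fne : f ≠ 0) (fi : f ∈ I) : (hom2 f I).IsIntegral :=
  by
  have a : (hom1 f I).toRingHom.IsIntegral := hom1_isIntegral f I fne fi
  have b : Function.Surjective ((eqv2 f I).toRingEquiv.toRingHom.comp (eqv1 f I).toRingEquiv.toRingHom) :=
    (eqv2 f I).surjective.comp (eqv1 f I).surjective
  exact RingHom.IsIntegral.trans (S := (MvPolynomial (Fin n) k)[X] ⧸ (I.map (T f)).map (MvPolynomial.finSuccEquiv k n))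
    (T := MvPolynomial (Fin (n + 1)) k ⧸ I) (hom1 f I).toRingHom
    ((eqv2 f I).toRingEquiv.toRingHom.comp (eqv1 f I).toRingEquiv.toRingHom) a
    (RingHom.isIntegral_of_surjective (R := (MvPolynomial (Fin n) k)[X] ⧸ (I.map (T f)).map (MvPolynomial.finSuccEquiv k n))
      _ b)

end intmaps
end NN

theorem comp_integral_injective {R A B : Type*} [CommRing R] [CommRing A] [CommRing B] (ψ : R →+* A) (φ : A →+* B)
    (hφ : φ.IsIntegral) (hint : ((Ideal.Quotient.mk (RingHom.ker φ)).comp ψ).IsIntegral)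
    (hinj : Function.Injective ((Ideal.Quotient.mk (RingHom.ker φ)).comp ψ)) :
    Function.Injective (φ.comp ψ) ∧ (φ.comp ψ).IsIntegral := by
  refine ⟨(RingHom.kerLift_injective φ).comp hinj, ?_⟩
  have h1 : (RingHom.kerLift φ).IsIntegral := RingHom.IsIntegral.tower_top (Ideal.Quotient.mk (RingHom.ker φ)) _ hφ
  exact RingHom.IsIntegral.trans ((Ideal.Quotient.mk (RingHom.ker φ)).comp ψ) (RingHom.kerLift φ) hint h1

open NN in
theorem exists_int (n : ℕ) : ∀ (I : Ideal (MvPolynomial (Fin n) k)), I ≠ ⊤ →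
    ∃ (r : ℕ) (y : Fin r → MvPolynomial (Fin n) k),
      (∀ i, y i ∈ Set.range (MvPolynomial.map (Int.castRingHom k) :
        MvPolynomial (Fin n) ℤ → MvPolynomial (Fin n) k)) ∧
      Function.Injective ((Ideal.Quotient.mkₐ k I).comp (MvPolynomial.aeval y)) ∧
      ((Ideal.Quotient.mkₐ k I).comp (MvPolynomial.aeval y)).toRingHom.IsIntegral := by
  induction n with
  | zero =>
    intro I hI
    refine ⟨0, X, fun i => i.elim0, ?_, ?_⟩
    · rw [MvPolynomial.aeval_X_left]
      refine (injective_iff_map_eq_zero _).2 fun a ha => ?_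
      have ha' : a ∈ I := Ideal.Quotient.eq_zero_iff_mem.1 ha
      by_contra hne
      refine hI (Ideal.eq_top_of_isUnit_mem _ ha' ?_)
      rw [eq_C_of_isEmpty a] at hne ⊢
      exact (IsUnit.mk0 _ fun h => hne (by rw [h, map_zero])).map _
    · rw [MvPolynomial.aeval_X_left]
      exact RingHom.isIntegral_of_surjective _ (Quotient.mkₐ_surjective k I)
  | succ d hd =>
    intro I hI
    by_cases eqi : I = ⊥
    · refine ⟨d + 1, X, fun i => ⟨X i, by simp⟩, ?_, ?_⟩
      · rw [MvPolynomial.aeval_X_left]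
        exact ((Quotient.mk_bijective_iff_eq_bot I).mpr eqi).1
      · rw [MvPolynomial.aeval_X_left]
        exact RingHom.isIntegral_of_surjective _ (Quotient.mkₐ_surjective k I)
    · obtain ⟨f, fi, fne⟩ := Submodule.exists_mem_ne_zero_of_ne_bot eqi
      have := Quotient.nontrivial_iff.mpr hI
      obtain ⟨r, y, hy, hinj, hint⟩ := hd (RingHom.ker (hom2 f I)) (RingHom.ker_ne_top _)
      let z : Fin d → MvPolynomial (Fin (d + 1)) k := fun i =>
        X i.succ - X 0 ^ ((2 + f.totalDegree) ^ (i.succ : Fin (d + 1)).1)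
      have hz : hom2 f I = (Ideal.Quotient.mkₐ k I).comp (MvPolynomial.aeval z) := by
        refine MvPolynomial.algHom_ext fun i => ?_
        have hs : (finSuccEquiv k d).symm (Polynomial.C (X i)) = X i.succ := by
          rw [AlgEquiv.symm_apply_eq, finSuccEquiv_X_succ]
        show (eqv2 f I) ((eqv1 f I) (Ideal.Quotient.mk _ (Polynomial.C (X i)))) = _
        rw [show (eqv1 f I) (Ideal.Quotient.mk _ (Polynomial.C (X i))) =
            Ideal.Quotient.mk _ ((finSuccEquiv k d).symm (Polynomial.C (X i))) from rfl, hs,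
          show (eqv2 f I) (Ideal.Quotient.mk _ (X i.succ)) = Ideal.Quotient.mk I ((T f).symm (X i.succ)) from rfl]
        simp [z, sub_eq_add_neg]
      have hcomp : (Ideal.Quotient.mkₐ k I).comp (MvPolynomial.aeval fun i => MvPolynomial.aeval z (y i)) =
          (hom2 f I).comp (MvPolynomial.aeval y) := by
        refine MvPolynomial.algHom_ext fun i => ?_
        simp only [hz, AlgHom.comp_apply, MvPolynomial.aeval_X]
      have key := comp_integral_injective (MvPolynomial.aeval y).toRingHom (hom2 f I).toRingHom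
        (hom2_isIntegral f I fne fi) (by exact hint) (by exact hinj)
      refine ⟨r, fun i => MvPolynomial.aeval z (y i), fun i => ?_, ?_, ?_⟩
      · obtain ⟨q, hq⟩ := hy i
        refine ⟨MvPolynomial.aeval (fun i : Fin d =>
          (X i.succ - X 0 ^ ((2 + f.totalDegree) ^ (i.succ : Fin (d + 1)).1) : MvPolynomial (Fin (d + 1)) ℤ)) q, ?_⟩
        show _ = MvPolynomial.aeval z (y i)
        rw [← hq]
        clear hq
        induction q using MvPolynomial.induction_on with
        | C a => simp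
        | add p q hp hq => simp only [map_add, hp, hq]
        | mul_X p j hp => simp only [map_mul, hp, MvPolynomial.map_X, MvPolynomial.aeval_X]; simp [z]
      · rw [hcomp]
        exact key.1
      · rw [hcomp]
        exact key.2

end Groth.Agent.NoetherInt
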